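import Mathlib.Algebra.Polynomial.Bivariate
import Mathlib.RingTheory.Jacobson.Ring
import Mathlib.FieldTheory.IsAlgClosed.Basic
import Mathlib.RingTheory.FiniteType
import Mathlib.Algebra.Polynomial.Div
import Mathlib.RingTheory.Polynomial.Basic

/-!
# Two disjoint off-diagonal zeros of `(G(x, z), G(z, x))`, `G` of bidegree `(6, 2)`
-/

set_option autoImplicit false

universe u

namespace K788.ChordCount

open Polynomial
open scoped Polynomial.Bivariate

/-- The form `α(x) + β(x) z + γ(x) z²` (bidegree (6,2)). -/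
noncomputable def G {L : Type*} [Field L] (α β γ : Polynomial L) (x z : L) : L :=
  α.eval x + β.eval x * z + γ.eval x * z ^ 2

section

variable {L : Type*} [Field L]

/-! ### Swapping the variables -/

theorem coeff_swap (p : L[X][Y]) (i j : ℕ) : ((Bivariate.swap p).coeff i).coeff j = (p.coeff j).coeff i := by
  induction p using Polynomial.induction_on' with
  | add p q hp hq => simp only [map_add, coeff_add, hp, hq]
  | monomial n f =>
    induction f using Polynomial.induction_on' with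
    | add f g hf hg => simp only [map_add, coeff_add, hf, hg]
    | monomial m r =>
      rw [Bivariate.swap_monomial_monomial, coeff_monomial, coeff_monomial]
      split_ifs with h1 h2 h2
      · rw [coeff_monomial, coeff_monomial, if_pos h1, if_pos h2]
      · rw [coeff_monomial, if_neg h2, coeff_zero]
      · rw [coeff_monomial, if_neg h1, coeff_zero]
      · rfl

/-! ### Decomposition at a point -/

theorem exists_decomp (P : L[X][Y]) (x₀ z₀ : L) : ∃ (A : L[X]) (B : L[X][Y]),
    P = C (C (P.evalEval x₀ z₀)) + C ((X - C x₀) * A) + (X - C (C z₀)) * B ∧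
      A.eval x₀ = (derivative (P.eval (C z₀))).eval x₀ ∧ B.evalEval x₀ z₀ = (derivative P).evalEval x₀ z₀ := by
  obtain ⟨B, hB⟩ := (Polynomial.dvd_iff_isRoot (p := P - C (P.eval (C z₀))) (a := C z₀)).2 (by
    simp [IsRoot.def])
  obtain ⟨A, hA⟩ := (Polynomial.dvd_iff_isRoot (p := P.eval (C z₀) - C ((P.eval (C z₀)).eval x₀)) (a := x₀)).2 (by
    simp [IsRoot.def])
  have hB' : P = C (P.eval (C z₀)) + (X - C (C z₀)) * B := by rw [← hB]; ring
  have hA' : P.eval (C z₀) = C ((P.eval (C z₀)).eval x₀) + (X - C x₀) * A := by rw [← hA]; ring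
  refine ⟨A, B, ?_, ?_, ?_⟩
  · conv_lhs => rw [hB', hA']
    rw [C_add]
  · conv_rhs => rw [hA']
    simp
  · conv_rhs => rw [hB']
    simp [evalEval]

/-! ### Maximal ideals -/

theorem exists_point [IsAlgClosed L] (m : Ideal L[X][Y]) [hm : m.IsMaximal] :
    ∃ x₀ z₀ : L, ∀ P : L[X][Y], P ∈ m ↔ P.evalEval x₀ z₀ = 0 := by
  let K := L[X][Y] ⧸ m
  letI : Field K := Ideal.Quotient.field m
  have hft : Algebra.FiniteType L K := by
    have h1 : Algebra.FiniteType L L[X][Y] := Algebra.FiniteType.trans (S := L[X]) inferInstance inferInstance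
    exact Algebra.FiniteType.of_surjective (Ideal.Quotient.mkₐ L m) Ideal.Quotient.mk_surjective
  have hfin : Module.Finite L K := finite_of_finite_type_of_isJacobsonRing L K
  have hsurj : Function.Surjective (algebraMap L K) :=
    (IsAlgClosed.algebraMap_bijective_of_isIntegral (k := L) (K := K)).2
  obtain ⟨x₀, hx⟩ := hsurj (Ideal.Quotient.mk m (C X))
  obtain ⟨z₀, hz⟩ := hsurj (Ideal.Quotient.mk m X)
  have key : ∀ P : L[X][Y], Ideal.Quotient.mk m P = algebraMap L K (P.evalEval x₀ z₀) := by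
    intro P
    obtain ⟨A, B, h, -, -⟩ := exists_decomp P x₀ z₀
    have h1 : Ideal.Quotient.mk m (C ((X - C x₀) * A)) = 0 := by
      rw [C_mul, map_mul, C_sub, map_sub, ← hx]
      have : Ideal.Quotient.mk m (C (C x₀)) = algebraMap L K x₀ := rfl
      rw [this, sub_self, zero_mul]
    have h2 : Ideal.Quotient.mk m ((X - C (C z₀)) * B) = 0 := by
      rw [map_mul, map_sub, ← hz]
      have : Ideal.Quotient.mk m (C (C z₀)) = algebraMap L K z₀ := rfl
      rw [this, sub_self, zero_mul]
    conv_lhs => rw [h]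
    rw [map_add, map_add, h1, h2, add_zero, add_zero]
    rfl
  refine ⟨x₀, z₀, fun P => ?_⟩
  rw [← Ideal.Quotient.eq_zero_iff_mem, key]
  exact map_eq_zero _

/-- (1) If the Jacobian does not vanish at the common zeros, then the ideal `(G₁, G₂)` contains every polynomial which
vanishes at the common zeros. -/
theorem mem_span [IsAlgClosed L] (G₁ G₂ H : L[X][Y])
    (hJ : ∀ x z, G₁.evalEval x z = 0 → G₂.evalEval x z = 0 →
      (derivative (G₁.eval (C z))).eval x * (derivative G₂).evalEval x z ≠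
        (derivative G₁).evalEval x z * (derivative (G₂.eval (C z))).eval x)
    (hH : ∀ x z, G₁.evalEval x z = 0 → G₂.evalEval x z = 0 → H.evalEval x z = 0) :
    ∃ A B : L[X][Y], H = A * G₁ + B * G₂ := by
  by_contra hcon
  let J : Ideal L[X][Y] :=
    { carrier := {r | ∃ A B : L[X][Y], r * H = A * G₁ + B * G₂}
      add_mem' := by
        rintro r s ⟨A, B, h⟩ ⟨A', B', h'⟩
        exact ⟨A + A', B + B', by rw [add_mul, h, h']; ring⟩
      zero_mem' := ⟨0, 0, by ring⟩
      smul_mem' := by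
        rintro c r ⟨A, B, h⟩
        exact ⟨c * A, c * B, by rw [smul_eq_mul, mul_assoc, h]; ring⟩ }
  have hJne : J ≠ ⊤ := by
    intro h
    have : (1 : L[X][Y]) ∈ J := by rw [h]; trivial
    obtain ⟨A, B, h1⟩ := this
    exact hcon ⟨A, B, by rw [← h1, one_mul]⟩
  obtain ⟨m, hm, hle⟩ := Ideal.exists_le_maximal J hJne
  obtain ⟨x₀, z₀, hpt⟩ := exists_point m
  have hG₁ : G₁.evalEval x₀ z₀ = 0 := (hpt _).1 (hle ⟨H, 0, by ring⟩)
  have hG₂ : G₂.evalEval x₀ z₀ = 0 := (hpt _).1 (hle ⟨0, H, by ring⟩)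
  have hH₀ := hH x₀ z₀ hG₁ hG₂
  obtain ⟨A₁, B₁, h1, h1a, h1b⟩ := exists_decomp G₁ x₀ z₀
  obtain ⟨A₂, B₂, h2, h2a, h2b⟩ := exists_decomp G₂ x₀ z₀
  obtain ⟨A₃, B₃, h3, -, -⟩ := exists_decomp H x₀ z₀
  rw [hG₁, C_0, C_0, zero_add, C_mul] at h1
  rw [hG₂, C_0, C_0, zero_add, C_mul] at h2
  rw [hH₀, C_0, C_0, zero_add, C_mul] at h3
  let s : L[X][Y] := C A₁ * B₂ - C A₂ * B₁
  have hs : s ∈ J := by
    refine ⟨C A₃ * B₂ - B₃ * C A₂, -(C A₃ * B₁) + B₃ * C A₁, ?_⟩
    change (C A₁ * B₂ - C A₂ * B₁) * H = _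
    rw [h3]
    linear_combination (-(C A₃ * B₂ - B₃ * C A₂)) * h1 + (C A₃ * B₁ - B₃ * C A₁) * h2
  have h4 := (hpt s).1 (hle hs)
  apply hJ x₀ z₀ hG₁ hG₂
  rw [← h1a, ← h1b, ← h2a, ← h2b, ← sub_eq_zero]
  have h5 : s.evalEval x₀ z₀ = A₁.eval x₀ * B₂.evalEval x₀ z₀ - A₂.eval x₀ * B₁.evalEval x₀ z₀ := by
    simp [s, evalEval]
  rw [h5] at h4
  rw [← h4]
  ring

/-! ### The two forms -/

variable (α β γ : L[X])

/-- `G(x, z)`, `x` the inner variable, `z` the outer variable. -/
noncomputable def P1 : L[X][Y] := C α + C β * X + C γ * X ^ 2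

/-- `G(z, x)` -/
noncomputable def P2 : L[X][Y] := α.map C + β.map C * C X + γ.map C * C (X ^ 2)

/-- the coefficient of `x⁶` -/
noncomputable def tau : L[X] := C (α.coeff 6) + C (β.coeff 6) * X + C (γ.coeff 6) * X ^ 2

lemma eval_P1 (x z : L) : (P1 α β γ).evalEval x z = G α β γ x z := by
  simp [P1, G, evalEval]

lemma eval_map_C (f : L[X]) (c : L) : (f.map (C : L →+* L[X])).eval (C c) = C (f.eval c) := by
  rw [eval_map, eval₂_hom]

lemma eval_P2 (x z : L) : (P2 α β γ).evalEval x z = G α β γ z x := by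
  simp only [P2, G, evalEval, eval_add, eval_mul, eval_map_C, eval_C, eval_X, eval_pow]

lemma swap_P1 : Bivariate.swap (P1 α β γ) = P2 α β γ := by
  simp only [P1, P2, map_add, map_mul, map_pow, Bivariate.swap_C, Bivariate.swap_Y]

lemma swap_P2 : Bivariate.swap (P2 α β γ) = P1 α β γ := by
  rw [← swap_P1, Bivariate.swap_swap_apply]

lemma natDegree_P1 : (P1 α β γ).natDegree ≤ 2 := by
  unfold P1
  compute_degree

lemma coeff_P1 : (P1 α β γ).coeff 2 = γ := by
  simp [P1, coeff_C, coeff_X]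

variable {α β γ}

lemma natDegree_P2 (hα : α.natDegree ≤ 6) (hβ : β.natDegree ≤ 6) (hγ : γ.natDegree ≤ 6) :
    (P2 α β γ).natDegree ≤ 6 := by
  have h : ∀ f : L[X], f.natDegree ≤ 6 → (f.map (C : L →+* L[X])).natDegree ≤ 6 := fun f hf =>
    (natDegree_map_le).trans hf
  have h' : ∀ (f : L[X]) (c : L[X]), f.natDegree ≤ 6 → (f.map (C : L →+* L[X]) * C c).natDegree ≤ 6 := fun f c hf =>
    (natDegree_mul_C_le _ _).trans (h f hf)
  exact natDegree_add_le_of_degree_le (natDegree_add_le_of_degree_le (h α hα) (h' β _ hβ)) (h' γ _ hγ)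

variable (α β γ) in
lemma coeff_P2 : (P2 α β γ).coeff 6 = tau α β γ := by
  simp only [P2, tau, coeff_add, coeff_mul_C, coeff_map]

lemma isCoprime [IsAlgClosed L]
    (h3 : ∀ z, γ.eval z = 0 → α.coeff 6 + β.coeff 6 * z + γ.coeff 6 * z ^ 2 ≠ 0) (h0 : γ ≠ 0) :
    IsCoprime γ (tau α β γ) := by
  refine isCoprime_of_dvd _ _ (fun h => h0 h.1) ?_
  intro p hp hp0 h1 h2
  obtain ⟨z, hz⟩ := IsAlgClosed.exists_root p (fun h => hp (isUnit_iff_degree_eq_zero.2 h))
  refine h3 z ?_ ?_
  · exact eval_eq_zero_of_dvd_of_eval_eq_zero h1 hz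
  · have := eval_eq_zero_of_dvd_of_eval_eq_zero h2 hz
    simpa [tau] using this

/-- (2) -/
theorem eq_zero_of_mem [IsAlgClosed L] (hα : α.natDegree ≤ 6) (hβ : β.natDegree ≤ 6) (hγ : γ.natDegree ≤ 6)
    (htop : γ.coeff 6 ≠ 0)
    (h3 : ∀ z, γ.eval z = 0 → α.coeff 6 + β.coeff 6 * z + γ.coeff 6 * z ^ 2 ≠ 0) (H A B : L[X][Y])
    (hz : H.natDegree ≤ 5) (hx : ∀ i, (H.coeff i).natDegree ≤ 5) (h : H = A * P1 α β γ + B * P2 α β γ) : H = 0 := by
  have hγ0 : γ ≠ 0 := by rintro rfl; simp at htop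
  have hcop := isCoprime (α := α) (β := β) h3 hγ0
  have hd2 := natDegree_P2 hα hβ hγ
  have hd1 := natDegree_P1 α β γ
  -- reduce the degrees in `z`
  have hred : ∀ (N : ℕ) (A B : L[X][Y]), A.natDegree ≤ N + 5 → B.natDegree ≤ N + 1 →
      H = A * P1 α β γ + B * P2 α β γ →
      ∃ A' B' : L[X][Y], A'.natDegree ≤ 5 ∧ B'.natDegree ≤ 1 ∧ H = A' * P1 α β γ + B' * P2 α β γ := by
    intro N
    induction N with
    | zero => intro A B hA hB h; exact ⟨A, B, by omega, by omega, h⟩
    | succ N ih =>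
      intro A B hA hB h
      have e1 : (A * P1 α β γ).coeff (N + 6 + 2) = A.coeff (N + 6) * γ := by
        rw [coeff_mul_add_eq_of_natDegree_le (by omega) hd1, coeff_P1]
      have e2 : (B * P2 α β γ).coeff (N + 2 + 6) = B.coeff (N + 2) * tau α β γ := by
        rw [coeff_mul_add_eq_of_natDegree_le (by omega) hd2, coeff_P2]
      have e3 : H.coeff (N + 8) = 0 := coeff_eq_zero_of_natDegree_lt (by omega)
      have e4 : A.coeff (N + 6) * γ + B.coeff (N + 2) * tau α β γ = 0 := by
        rw [← e1, ← e2, ← e3, h, coeff_add]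
      obtain ⟨w, hw⟩ : tau α β γ ∣ A.coeff (N + 6) := by
        apply hcop.symm.dvd_of_dvd_mul_right (z := γ)
        exact ⟨-B.coeff (N + 2), by linear_combination e4⟩
      have hw2 : B.coeff (N + 2) = - (γ * w) := by
        have ht0 : tau α β γ ≠ 0 := by
          intro h0
          have : IsUnit γ := by
            rw [h0] at hcop
            exact isCoprime_zero_right.1 hcop
          have h7 := natDegree_eq_zero_of_isUnit this
          exact htop (coeff_eq_zero_of_natDegree_lt (by omega))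
        apply mul_right_cancel₀ ht0
        rw [hw] at e4
        linear_combination e4
      refine ih (A - C w * X ^ N * P2 α β γ) (B + C w * X ^ N * P1 α β γ) ?_ ?_ ?_
      · have hA1 : (A - C w * X ^ N * P2 α β γ).natDegree ≤ N + 6 := by
          refine (natDegree_sub_le _ _).trans (max_le (by omega) ?_)
          refine natDegree_mul_le.trans ?_
          have := natDegree_C_mul_X_pow_le w N
          omega
        refine natDegree_le_pred hA1 ?_
        rw [coeff_sub]
        have : (C w * X ^ N * P2 α β γ).coeff (N + 6) = w * tau α β γ := by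
          rw [coeff_mul_add_eq_of_natDegree_le (natDegree_C_mul_X_pow_le w N) hd2, coeff_P2, coeff_C_mul_X_pow, if_pos rfl]
        rw [this, hw]
        ring
      · have hB1 : (B + C w * X ^ N * P1 α β γ).natDegree ≤ N + 2 := by
          refine (natDegree_add_le _ _).trans (max_le (by omega) ?_)
          refine natDegree_mul_le.trans ?_
          have := natDegree_C_mul_X_pow_le w N
          omega
        refine natDegree_le_pred hB1 ?_
        rw [coeff_add]
        have : (C w * X ^ N * P1 α β γ).coeff (N + 2) = w * γ := by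
          rw [coeff_mul_add_eq_of_natDegree_le (natDegree_C_mul_X_pow_le w N) hd1, coeff_P1, coeff_C_mul_X_pow, if_pos rfl]
        rw [this, hw2]
        ring
      · rw [h]; ring
  obtain ⟨A, B, hA, hB, h⟩ := hred (A.natDegree + B.natDegree) A B (by omega) (by omega) h
  -- swapped
  have hs : Bivariate.swap H = Bivariate.swap A * P2 α β γ + Bivariate.swap B * P1 α β γ := by
    rw [h, map_add, map_mul, map_mul, swap_P1, swap_P2]
  have hH' : ∀ i, 6 ≤ i → (Bivariate.swap H).coeff i = 0 := by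
    intro i hi
    ext j
    rw [coeff_swap, coeff_zero]
    exact coeff_eq_zero_of_natDegree_lt (by have := hx j; omega)
  have hA' : ∀ i, ((Bivariate.swap A).coeff i).natDegree ≤ 5 := by
    intro i
    rw [natDegree_le_iff_coeff_eq_zero]
    intro j hj
    have : A.coeff j = 0 := coeff_eq_zero_of_natDegree_lt (by omega)
    rw [coeff_swap, this, coeff_zero]
  have hdec : ∀ N : ℕ, (∀ i, N ≤ i → (Bivariate.swap A).coeff i = 0) →
      (∀ i, N + 4 ≤ i → (Bivariate.swap B).coeff i = 0) → Bivariate.swap A = 0 := by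
    intro N
    induction N with
    | zero => intro h1 _; ext1 i; rw [h1 i (Nat.zero_le i), coeff_zero]
    | succ N ih =>
      intro h1 h2
      have d1 : (Bivariate.swap A).natDegree ≤ N := natDegree_le_iff_coeff_eq_zero.2 fun i hi => h1 i hi
      have d2 : (Bivariate.swap B).natDegree ≤ N + 4 := natDegree_le_iff_coeff_eq_zero.2 fun i hi => h2 i (by omega)
      have e1 : (Bivariate.swap A * P2 α β γ).coeff (N + 6) = (Bivariate.swap A).coeff N * tau α β γ := by
        rw [coeff_mul_add_eq_of_natDegree_le d1 hd2, coeff_P2]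
      have e2 : (Bivariate.swap B * P1 α β γ).coeff (N + 4 + 2) = (Bivariate.swap B).coeff (N + 4) * γ := by
        rw [coeff_mul_add_eq_of_natDegree_le d2 hd1, coeff_P1]
      have e3 := hH' (N + 6) (by omega)
      have e4 : (Bivariate.swap A).coeff N * tau α β γ + (Bivariate.swap B).coeff (N + 4) * γ = 0 := by
        rw [← e1, ← e2, ← e3, hs, coeff_add]
      have e5 : (Bivariate.swap A).coeff N = 0 := by
        have hdvd : γ ∣ (Bivariate.swap A).coeff N := by
          apply hcop.dvd_of_dvd_mul_right (z := tau α β γ)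
          exact ⟨-(Bivariate.swap B).coeff (N + 4), by linear_combination e4⟩
        by_contra h0
        have h7 := natDegree_le_of_dvd hdvd h0
        have h8 : 6 ≤ γ.natDegree := le_natDegree_of_ne_zero htop
        have := hA' N
        omega
      have e6 : (Bivariate.swap B).coeff (N + 4) = 0 := by
        rw [e5, zero_mul, zero_add] at e4
        exact (mul_eq_zero.1 e4).resolve_right hγ0
      refine ih (fun i hi => ?_) (fun i hi => ?_)
      · rcases Nat.eq_or_lt_of_le hi with h' | h'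
        · rw [← h', e5]
        · exact h1 i h'
      · rcases Nat.eq_or_lt_of_le hi with h' | h'
        · rw [← h', e6]
        · exact h2 i (by omega)
  have hA0 : A = 0 := by
    have h1 := hdec ((Bivariate.swap A).natDegree + (Bivariate.swap B).natDegree + 1)
      (fun i hi => coeff_eq_zero_of_natDegree_lt (by omega)) (fun i hi => coeff_eq_zero_of_natDegree_lt (by omega))
    exact (map_eq_zero_iff _ Bivariate.swap.injective).1 h1
  rw [hA0, zero_mul, zero_add] at h
  by_contra hH0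
  have hB0 : B ≠ 0 := by rintro rfl; rw [zero_mul] at h; exact hH0 h
  have ht0 : tau α β γ ≠ 0 := by
    intro h0
    have : IsUnit γ := by
      rw [h0] at hcop
      exact isCoprime_zero_right.1 hcop
    have h7 := natDegree_eq_zero_of_isUnit this
    exact htop (coeff_eq_zero_of_natDegree_lt (by omega))
  have hP2 : 6 ≤ (P2 α β γ).natDegree := le_natDegree_of_ne_zero (by rw [coeff_P2]; exact ht0)
  have hP20 : P2 α β γ ≠ 0 := by rintro h0; rw [h0, natDegree_zero] at hP2; omega
  have := natDegree_mul hB0 hP20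
  rw [← h] at this
  omega

/-! ### Off-diagonal zeros -/

lemma derivative_eval_P1 (x z : L) :
    (derivative ((P1 α β γ).eval (C z))).eval x = G α.derivative β.derivative γ.derivative x z := by
  have : (P1 α β γ).eval (C z) = α + β * C z + γ * C (z ^ 2) := by simp [P1]
  rw [this]
  simp only [G, derivative_add, derivative_mul, derivative_C, mul_zero, add_zero, eval_add, eval_mul, eval_C]

lemma derivative_eval_P2 (x z : L) :
    (derivative ((P2 α β γ).eval (C z))).eval x = β.eval z + 2 * γ.eval z * x := by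
  simp only [P2, eval_add, eval_mul, eval_map_C, eval_C, derivative_add, derivative_C, derivative_mul, derivative_X,
    derivative_X_pow, eval_X, eval_pow, eval_zero, eval_one]
  norm_num
  ring

lemma evalEval_derivative_P1 (x z : L) :
    (derivative (P1 α β γ)).evalEval x z = β.eval x + 2 * γ.eval x * z := by
  simp [P1, evalEval]
  ring

lemma evalEval_derivative_P2 (x z : L) :
    (derivative (P2 α β γ)).evalEval x z = G α.derivative β.derivative γ.derivative z x := by
  simp only [P2, G, evalEval, derivative_add, derivative_mul, derivative_C, derivative_map, eval_add, eval_mul,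
    eval_map_C, eval_C, eval_X, eval_pow, eval_zero, mul_zero, add_zero]

/-- (3) -/
theorem exists_offDiag [IsAlgClosed L] (hα : α.natDegree ≤ 6) (hβ : β.natDegree ≤ 6) (hγ : γ.natDegree ≤ 6)
    (htop : γ.coeff 6 ≠ 0)
    (h3 : ∀ z, γ.eval z = 0 → α.coeff 6 + β.coeff 6 * z + γ.coeff 6 * z ^ 2 ≠ 0)
    (h2 : ∀ x z, G α β γ x z = 0 → G α β γ z x = 0 →
      G α.derivative β.derivative γ.derivative x z * G α.derivative β.derivative γ.derivative z x ≠
        (β.eval x + 2 * γ.eval x * z) * (β.eval z + 2 * γ.eval z * x)) (e₁ e₂ e₃ : L) :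
    ∃ x z, x ≠ z ∧ x ≠ e₁ ∧ x ≠ e₂ ∧ x ≠ e₃ ∧ G α β γ x z = 0 ∧ G α β γ z x = 0 := by
  by_contra hcon
  push Not at hcon
  let q : L[X] := (X - C e₁) * (X - C e₂) * (X - C e₃)
  let H : L[X][Y] := (C X - X) * C q
  have hq : q.natDegree ≤ 3 := by
    change ((X - C e₁) * (X - C e₂) * (X - C e₃)).natDegree ≤ 3
    compute_degree
  have hq0 : q ≠ 0 := mul_ne_zero (mul_ne_zero (X_sub_C_ne_zero _) (X_sub_C_ne_zero _)) (X_sub_C_ne_zero _)
  have hH0 : H ≠ 0 := by
    refine mul_ne_zero ?_ (C_ne_zero.2 hq0)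
    intro h0
    have := congrArg (fun p : L[X][Y] => p.coeff 1) h0
    simp [coeff_C, coeff_X] at this
  have hHz : H.natDegree ≤ 5 := by
    refine natDegree_mul_le.trans ?_
    rw [natDegree_C]
    have : (C X - X : L[X][Y]).natDegree ≤ 1 := by compute_degree
    omega
  have hHx : ∀ i, (H.coeff i).natDegree ≤ 5 := by
    intro i
    have : H.coeff i = (C X - X : L[X][Y]).coeff i * q := coeff_mul_C _ _ _
    rw [this]
    refine natDegree_mul_le.trans ?_
    have h1 : ((C X - X : L[X][Y]).coeff i).natDegree ≤ 1 := by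
      rw [coeff_sub, coeff_C, coeff_X]
      refine (natDegree_sub_le _ _).trans (max_le ?_ ?_)
      · split_ifs
        · exact natDegree_X_le
        · simp
      · split_ifs <;> simp
    omega
  have hHe : ∀ x z, H.evalEval x z = (x - z) * ((x - e₁) * (x - e₂) * (x - e₃)) := by
    intro x z
    simp [H, q, evalEval]
  obtain ⟨A, B, h⟩ := mem_span (P1 α β γ) (P2 α β γ) H (by
    intro x z hx hz
    rw [eval_P1] at hx
    rw [eval_P2] at hz
    rw [derivative_eval_P1, derivative_eval_P2, evalEval_derivative_P1, evalEval_derivative_P2]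
    exact h2 x z hx hz) (by
    intro x z hx hz
    rw [eval_P1] at hx
    rw [eval_P2] at hz
    rw [hHe]
    by_cases a0 : x = z
    · rw [a0, sub_self, zero_mul]
    by_cases a1 : x = e₁
    · rw [a1, sub_self]; ring
    by_cases a2 : x = e₂
    · rw [a2, sub_self]; ring
    by_cases a3 : x = e₃
    · rw [a3, sub_self]; ring
    exact absurd hz (hcon x z a0 a1 a2 a3 hx))
  exact hH0 (eq_zero_of_mem hα hβ hγ htop h3 H A B hHz hHx h)

/-- at most two neighbours -/
theorem not_three (h1 : ∀ x, ¬ (α.eval x = 0 ∧ β.eval x = 0 ∧ γ.eval x = 0)) (e a b c : L) (hab : a ≠ b) (hac : a ≠ c)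
    (hbc : b ≠ c) (ha : G α β γ e a = 0) (hb : G α β γ e b = 0) (hc : G α β γ e c = 0) : False := by
  unfold G at ha hb hc
  have e1 : (a - b) * (β.eval e + γ.eval e * (a + b)) = 0 := by linear_combination ha - hb
  have e2 : (a - c) * (β.eval e + γ.eval e * (a + c)) = 0 := by linear_combination ha - hc
  have e3 := (mul_eq_zero.1 e1).resolve_left (sub_ne_zero.2 hab)
  have e4 := (mul_eq_zero.1 e2).resolve_left (sub_ne_zero.2 hac)
  have e5 : (b - c) * γ.eval e = 0 := by linear_combination e3 - e4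
  have e6 := (mul_eq_zero.1 e5).resolve_left (sub_ne_zero.2 hbc)
  have e7 : β.eval e = 0 := by rw [e6] at e3; linear_combination e3
  have e8 : α.eval e = 0 := by rw [e6, e7] at ha; linear_combination ha
  exact h1 e ⟨e8, e7, e6⟩

end

/-- NODE COUNT: two disjoint off-diagonal zeros of `(G(x,z), G(z,x))`. -/
theorem exists_disjoint {L : Type*} [Field L] [IsAlgClosed L] (α β γ : Polynomial L)
    (hα : α.natDegree ≤ 6) (hβ : β.natDegree ≤ 6) (hγ : γ.natDegree ≤ 6)
    (h1 : ∀ x, ¬ (α.eval x = 0 ∧ β.eval x = 0 ∧ γ.eval x = 0)) (htop : γ.coeff 6 ≠ 0)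
    (h3 : ∀ z, γ.eval z = 0 → α.coeff 6 + β.coeff 6 * z + γ.coeff 6 * z ^ 2 ≠ 0)
    (h2 : ∀ x z, G α β γ x z = 0 → G α β γ z x = 0 →
      G α.derivative β.derivative γ.derivative x z * G α.derivative β.derivative γ.derivative z x ≠
        (β.eval x + 2 * γ.eval x * z) * (β.eval z + 2 * γ.eval z * x)) :
    ∃ x₁ y₁ x₂ y₂ : L, x₁ ≠ y₁ ∧ x₂ ≠ y₂ ∧ x₁ ≠ x₂ ∧ x₁ ≠ y₂ ∧ y₁ ≠ x₂ ∧ y₁ ≠ y₂ ∧
      G α β γ x₁ y₁ = 0 ∧ G α β γ y₁ x₁ = 0 ∧ G α β γ x₂ y₂ = 0 ∧ G α β γ y₂ x₂ = 0 := by
  have key := exists_offDiag hα hβ hγ htop h3 h2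
  by_contra hcon
  push Not at hcon
  -- disjoint edges
  have hdis : ∀ a b x y : L, a ≠ b → x ≠ y → a ≠ x → b ≠ x → G α β γ a b = 0 → G α β γ b a = 0 →
      G α β γ x y = 0 → G α β γ y x = 0 → y = a ∨ y = b := by
    intro a b x y hab hxy hax hbx g1 g2 g3 g4
    by_contra hno
    push Not at hno
    exact hcon a b x y hab hxy hax (Ne.symm hno.1) hbx (Ne.symm hno.2) g1 g2 g3 g4
  -- no vertex `a` has two neighbours
  have hone : ∀ a b c : L, a ≠ b → a ≠ c → b ≠ c → G α β γ a b = 0 → G α β γ b a = 0 → G α β γ a c = 0 →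
      G α β γ c a = 0 → False := by
    intro a b c hab hac hbc g1 g2 g3 g4
    obtain ⟨x, y, hxy, hxa, hxb, hxc, g5, g6⟩ := key a b c
    rcases hdis a b x y hab hxy (Ne.symm hxa) (Ne.symm hxb) g1 g2 g5 g6 with h | h
    · subst h
      exact not_three h1 y b c x hbc (Ne.symm hxb) (Ne.symm hxc) g1 g3 g6
    · subst h
      -- edges {a, c}, {x, y}
      rcases hdis a c x y hac hxy (Ne.symm hxa) (Ne.symm hxc) g3 g4 g5 g6 with h | h
      · exact hab h.symm
      · exact hbc h
  obtain ⟨a, b, hab, -, -, -, g1, g2⟩ := key 0 0 0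
  obtain ⟨x, y, hxy, hxa, hxb, -, g5, g6⟩ := key a b b
  rcases hdis a b x y hab hxy (Ne.symm hxa) (Ne.symm hxb) g1 g2 g5 g6 with h | h
  · subst h
    exact hone y b x hab (Ne.symm hxy) (Ne.symm hxb) g1 g2 g6 g5
  · subst h
    exact hone y a x (Ne.symm hab) (Ne.symm hxy) (Ne.symm hxa) g2 g1 g6 g5

end K788.ChordCount
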